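import Groth.Prelude.Def_RDerDelta
import Mathlib.CategoryTheory.Abelian.Injective.Resolution
import Mathlib.CategoryTheory.Abelian.Refinements

/-!
# Lifting a morphism of short exact sequences to injective resolutions of the sequences

Given `T : RDer.SESRes S`, `T' : RDer.SESRes S'`, a morphism `φ : S ⟶ S'` and cochain maps
`a₁`, `a₃` lying over `φ.τ₁`, `φ.τ₃`, we construct a cochain map `a₂` between the middle
resolutions such that `(a₁, a₂, a₃)` is a morphism of short exact sequences of complexes.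
-/

set_option autoImplicit false
set_option linter.style.haveILetI false

universe v u

open CategoryTheory CategoryTheory.Limits

namespace Groth.Agent.Lib.Helper22.Horseshoe.Lift

variable {C : Type u} [Category.{v} C] [Abelian C]

section Basic

variable {S : ShortComplex C} (T : RDer.SESRes S)

/-- The retraction in degree `n`. -/
noncomputable def r (n : ℕ) : T.I₂.cocomplex.X n ⟶ T.I₁.cocomplex.X n := (T.splitting n).r

/-- The section in degree `n`. -/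
noncomputable def s (n : ℕ) : T.I₃.cocomplex.X n ⟶ T.I₂.cocomplex.X n := (T.splitting n).s

@[reassoc (attr := simp)]
lemma f_r (n : ℕ) : T.f.f n ≫ r T n = 𝟙 _ := (T.splitting n).f_r

@[reassoc (attr := simp)]
lemma s_g (n : ℕ) : s T n ≫ T.g.f n = 𝟙 _ := (T.splitting n).s_g

lemma r_f_add (n : ℕ) : r T n ≫ T.f.f n + T.g.f n ≫ s T n = 𝟙 _ := (T.splitting n).id

@[reassoc]
lemma r_f (n : ℕ) : r T n ≫ T.f.f n = 𝟙 _ - T.g.f n ≫ s T n := (T.splitting n).r_f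

@[reassoc]
lemma g_s (n : ℕ) : T.g.f n ≫ s T n = 𝟙 _ - r T n ≫ T.f.f n := (T.splitting n).g_s

@[reassoc (attr := simp)]
lemma s_r (n : ℕ) : s T n ≫ r T n = 0 := (T.splitting n).s_r

@[reassoc (attr := simp)]
lemma f_g (n : ℕ) : T.f.f n ≫ T.g.f n = 0 := by
  rw [← HomologicalComplex.comp_f, T.zero]; rfl

instance mono_f (n : ℕ) : Mono (T.f.f n) :=
  (T.shortExact.map_of_exact (HomologicalComplex.eval C _ n)).mono_f

instance epi_g (n : ℕ) : Epi (T.g.f n) :=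
  (T.shortExact.map_of_exact (HomologicalComplex.eval C _ n)).epi_g

@[reassoc]
lemma f_d (n : ℕ) : T.f.f n ≫ T.I₂.cocomplex.d n (n + 1) =
    T.I₁.cocomplex.d n (n + 1) ≫ T.f.f (n + 1) := T.f.comm n (n + 1)

@[reassoc]
lemma g_d (n : ℕ) : T.g.f n ≫ T.I₃.cocomplex.d n (n + 1) =
    T.I₂.cocomplex.d n (n + 1) ≫ T.g.f (n + 1) := T.g.comm n (n + 1)

/-- The augmentation of `I₁`. -/
noncomputable def ε₁ : S.X₁ ⟶ T.I₁.cocomplex.X 0 := T.I₁.ι.f 0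

/-- The augmentation of `I₂`. -/
noncomputable def ε₂ : S.X₂ ⟶ T.I₂.cocomplex.X 0 := T.I₂.ι.f 0

/-- The augmentation of `I₃`. -/
noncomputable def ε₃ : S.X₃ ⟶ T.I₃.cocomplex.X 0 := T.I₃.ι.f 0

instance : Mono (ε₁ T) := inferInstanceAs (Mono (T.I₁.ι.f 0))
instance : Mono (ε₂ T) := inferInstanceAs (Mono (T.I₂.ι.f 0))
instance : Mono (ε₃ T) := inferInstanceAs (Mono (T.I₃.ι.f 0))

@[reassoc]
lemma ε_f : ε₁ T ≫ T.f.f 0 = S.f ≫ ε₂ T := by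
  have := congrArg (fun k => k.f 0) T.ι_f
  change T.I₁.ι.f 0 ≫ T.f.f 0 = S.f ≫ T.I₂.ι.f 0
  simpa using this

@[reassoc]
lemma ε_g : ε₂ T ≫ T.g.f 0 = S.g ≫ ε₃ T := by
  have := congrArg (fun k => k.f 0) T.ι_g
  change T.I₂.ι.f 0 ≫ T.g.f 0 = S.g ≫ T.I₃.ι.f 0
  simpa using this

@[reassoc (attr := simp)]
lemma ε₂_d : ε₂ T ≫ T.I₂.cocomplex.d 0 1 = 0 := T.I₂.ι_f_zero_comp_complex_d

@[reassoc (attr := simp)]
lemma ε₃_d : ε₃ T ≫ T.I₃.cocomplex.d 0 1 = 0 := T.I₃.ι_f_zero_comp_complex_d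

lemma ε₃_exact : (ShortComplex.mk (ε₃ T) (T.I₃.cocomplex.d 0 1) (ε₃_d T)).Exact := T.I₃.exact₀

@[reassoc (attr := simp)]
lemma ε₁_d : ε₁ T ≫ T.I₁.cocomplex.d 0 1 = 0 := T.I₁.ι_f_zero_comp_complex_d

lemma ε₁_exact : (ShortComplex.mk (ε₁ T) (T.I₁.cocomplex.d 0 1) (ε₁_d T)).Exact := T.I₁.exact₀

lemma ε₂_exact : (ShortComplex.mk (ε₂ T) (T.I₂.cocomplex.d 0 1) (ε₂_d T)).Exact := T.I₂.exact₀

/-- Factor a map killed by `g` through `f`. -/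
lemma eq_comp_r_f {A : C} (n : ℕ) (x : A ⟶ T.I₂.cocomplex.X n) (hx : x ≫ T.g.f n = 0) :
    x = (x ≫ r T n) ≫ T.f.f n := by
  rw [Category.assoc, r_f, Preadditive.comp_sub, Category.comp_id, reassoc_of% hx, zero_comp,
    sub_zero]

/-- A short complex admitting an injective resolution in the sense of `RDer.SESRes` is short
exact. -/
theorem shortExact_of_sesRes (T : RDer.SESRes S) : S.ShortExact := by
  have hm : Mono S.f := by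
    have : Mono (S.f ≫ ε₂ T) := by rw [← ε_f]; infer_instance
    exact mono_of_mono S.f (ε₂ T)
  have hex : S.Exact := by
    rw [ShortComplex.exact_iff_exact_up_to_refinements]
    intro A x hx
    have h1 : (x ≫ ε₂ T) ≫ T.g.f 0 = 0 := by
      rw [Category.assoc, ε_g, reassoc_of% hx, zero_comp]
    obtain ⟨y, hy⟩ : ∃ y : A ⟶ T.I₁.cocomplex.X 0, x ≫ ε₂ T = y ≫ T.f.f 0 :=
      ⟨_, eq_comp_r_f T 0 _ h1⟩
    have h3 : y ≫ T.I₁.cocomplex.d 0 1 = 0 := by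
      rw [← cancel_mono (T.f.f 1), Category.assoc, ← T.f.comm 0 1, ← reassoc_of% hy, ε₂_d,
        comp_zero, zero_comp]
    obtain ⟨z, hz⟩ : ∃ z : A ⟶ S.X₁, z ≫ ε₁ T = y :=
      ⟨(ε₁_exact T).lift y h3, (ε₁_exact T).lift_f _ _⟩
    refine ⟨A, 𝟙 A, inferInstance, z, ?_⟩
    rw [Category.id_comp, ← cancel_mono (ε₂ T), Category.assoc, ← ε_f, reassoc_of% hz, hy]
  have he : Epi S.g := by
    rw [epi_iff_surjective_up_to_refinements]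
    intro A x₃
    obtain ⟨w, hw⟩ : ∃ w : A ⟶ T.I₂.cocomplex.X 0, w ≫ T.g.f 0 = x₃ ≫ ε₃ T :=
      ⟨x₃ ≫ ε₃ T ≫ s T 0, by simp⟩
    have h1 : (w ≫ T.I₂.cocomplex.d 0 1) ≫ T.g.f 1 = 0 := by
      rw [Category.assoc, ← T.g.comm 0 1, reassoc_of% hw, ε₃_d, comp_zero]
    obtain ⟨v, hv⟩ : ∃ v : A ⟶ T.I₁.cocomplex.X 1, w ≫ T.I₂.cocomplex.d 0 1 = v ≫ T.f.f 1 :=
      ⟨_, eq_comp_r_f T 1 _ h1⟩
    have hv' : v ≫ T.I₁.cocomplex.d 1 2 = 0 := by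
      rw [← cancel_mono (T.f.f 2), Category.assoc, ← T.f.comm 1 2, ← reassoc_of% hv,
        HomologicalComplex.d_comp_d, comp_zero, zero_comp]
    obtain ⟨A', π, hπ, u, hu⟩ := (T.I₁.exact_succ 0).exact_up_to_refinements v hv'
    dsimp at u hu
    have h3 : (π ≫ w - u ≫ T.f.f 0) ≫ T.I₂.cocomplex.d 0 1 = 0 := by
      rw [Preadditive.sub_comp, Category.assoc, Category.assoc, hv, T.f.comm 0 1,
        ← reassoc_of% hu, sub_self]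
    obtain ⟨x₂, hx₂⟩ : ∃ x₂ : A' ⟶ S.X₂, x₂ ≫ ε₂ T = π ≫ w - u ≫ T.f.f 0 :=
      ⟨(ε₂_exact T).lift _ h3, (ε₂_exact T).lift_f _ _⟩
    refine ⟨A', π, hπ, x₂, ?_⟩
    rw [← cancel_mono (ε₃ T), Category.assoc, Category.assoc, ← ε_g, reassoc_of% hx₂,
      Preadditive.sub_comp, Category.assoc, Category.assoc, f_g, comp_zero, sub_zero, hw]
  exact { exact := hex, mono_f := hm, epi_g := he }

end Basic

section Construction

variable {S S' : ShortComplex C} (T : RDer.SESRes S) (T' : RDer.SESRes S')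
  (a₁ : T.I₁.cocomplex ⟶ T'.I₁.cocomplex) (a₃ : T.I₃.cocomplex ⟶ T'.I₃.cocomplex)

/-- The naive map in degree `n`. -/
noncomputable def b (n : ℕ) : T.I₂.cocomplex.X n ⟶ T'.I₂.cocomplex.X n :=
  r T n ≫ a₁.f n ≫ T'.f.f n + T.g.f n ≫ a₃.f n ≫ s T' n

@[reassoc]
lemma f_b (n : ℕ) : T.f.f n ≫ b T T' a₁ a₃ n = a₁.f n ≫ T'.f.f n := by
  simp [b]

@[reassoc]
lemma b_g (n : ℕ) : b T T' a₁ a₃ n ≫ T'.g.f n = T.g.f n ≫ a₃.f n := by
  simp [b]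

/-- The defect of `b` from being a cochain map. -/
noncomputable def E (n : ℕ) : T.I₂.cocomplex.X n ⟶ T'.I₂.cocomplex.X (n + 1) :=
  T.I₂.cocomplex.d n (n + 1) ≫ b T T' a₁ a₃ (n + 1) - b T T' a₁ a₃ n ≫ T'.I₂.cocomplex.d n (n + 1)

@[reassoc]
lemma f_E (n : ℕ) : T.f.f n ≫ E T T' a₁ a₃ n = 0 := by
  rw [E, Preadditive.comp_sub, f_d_assoc, f_b, f_b_assoc, f_d, sub_eq_zero,
    ← Category.assoc, ← Category.assoc]
  congr 1
  exact (a₁.comm n (n + 1)).symm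

@[reassoc]
lemma E_g (n : ℕ) : E T T' a₁ a₃ n ≫ T'.g.f (n + 1) = 0 := by
  rw [E, Preadditive.sub_comp, Category.assoc, Category.assoc, b_g, ← g_d, b_g_assoc,
    ← g_d_assoc, sub_eq_zero]
  congr 1
  exact (a₃.comm n (n + 1)).symm

/-- The defect, as a map `I₃ ⟶ I'₁`. -/
noncomputable def Ebar (n : ℕ) : T.I₃.cocomplex.X n ⟶ T'.I₁.cocomplex.X (n + 1) :=
  s T n ≫ E T T' a₁ a₃ n ≫ r T' (n + 1)

lemma g_Ebar_f (n : ℕ) : T.g.f n ≫ Ebar T T' a₁ a₃ n ≫ T'.f.f (n + 1) = E T T' a₁ a₃ n := by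
  rw [Ebar, Category.assoc, Category.assoc, r_f, g_s_assoc]
  simp only [Preadditive.comp_sub, Preadditive.sub_comp, Category.id_comp, Category.comp_id,
    Category.assoc, E_g_assoc, f_E, zero_comp, comp_zero, sub_zero]

lemma eq_zero_of_g_comp_f {n m : ℕ} (x : T.I₃.cocomplex.X n ⟶ T'.I₁.cocomplex.X m)
    (h : T.g.f n ≫ x ≫ T'.f.f m = 0) : x = 0 := by
  rw [← cancel_epi (T.g.f n), ← cancel_mono (T'.f.f m), Category.assoc, h, comp_zero, zero_comp]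

lemma cocycle (n : ℕ) :
    Ebar T T' a₁ a₃ n ≫ T'.I₁.cocomplex.d (n + 1) (n + 2) +
      T.I₃.cocomplex.d n (n + 1) ≫ Ebar T T' a₁ a₃ (n + 1) = 0 := by
  apply eq_zero_of_g_comp_f T T'
  rw [Preadditive.add_comp, Preadditive.comp_add, Category.assoc, ← f_d, Category.assoc,
    g_d_assoc, ← Category.assoc (Ebar T T' a₁ a₃ n), ← Category.assoc (T.g.f n),
    ← Category.assoc (T.g.f n), Category.assoc (T.g.f n), g_Ebar_f, g_Ebar_f]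
  simp [E]

variable (φ : S ⟶ S') (hS : S.ShortExact)
  (h₁ : ε₁ T ≫ a₁.f 0 = φ.τ₁ ≫ ε₁ T')
  (h₃ : ε₃ T ≫ a₃.f 0 = φ.τ₃ ≫ ε₃ T')

/-- The defect of `b 0` from lying over `φ.τ₂`. -/
noncomputable def e : S.X₂ ⟶ T'.I₂.cocomplex.X 0 :=
  φ.τ₂ ≫ ε₂ T' - ε₂ T ≫ b T T' a₁ a₃ 0

include h₃ in
@[reassoc]
lemma e_g : e T T' a₁ a₃ φ ≫ T'.g.f 0 = 0 := by
  rw [e, Preadditive.sub_comp, Category.assoc, Category.assoc, b_g, ε_g, ε_g_assoc, h₃,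
    ← φ.comm₂₃_assoc, sub_self]

/-- The defect, as a map to `I'₁`. -/
noncomputable def e₁ : S.X₂ ⟶ T'.I₁.cocomplex.X 0 := e T T' a₁ a₃ φ ≫ r T' 0

include h₃ in
lemma e₁_f : e₁ T T' a₁ a₃ φ ≫ T'.f.f 0 = e T T' a₁ a₃ φ := by
  rw [e₁, Category.assoc, r_f, Preadditive.comp_sub, Category.comp_id,
    e_g_assoc T T' a₁ a₃ φ h₃, zero_comp, sub_zero]

include h₁ h₃ in
lemma f_e₁ : S.f ≫ e₁ T T' a₁ a₃ φ = 0 := by
  rw [← cancel_mono (T'.f.f 0), Category.assoc, e₁_f T T' a₁ a₃ φ h₃, zero_comp, e,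
    Preadditive.comp_sub, sub_eq_zero, ← ε_f_assoc, f_b, reassoc_of% h₁, ε_f, φ.comm₁₂_assoc]

/-- The defect, as a map from `X₃`. -/
noncomputable def e₂ : S.X₃ ⟶ T'.I₁.cocomplex.X 0 :=
  hS.exact.descToInjective (e₁ T T' a₁ a₃ φ) (f_e₁ T T' a₁ a₃ φ h₁ h₃)

@[reassoc]
lemma g_e₂ : S.g ≫ e₂ T T' a₁ a₃ φ hS h₁ h₃ = e₁ T T' a₁ a₃ φ :=
  hS.exact.comp_descToInjective _ _

/-- The correction in degree zero. -/
noncomputable def c₀ : T.I₃.cocomplex.X 0 ⟶ T'.I₁.cocomplex.X 0 :=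
  Injective.factorThru (e₂ T T' a₁ a₃ φ hS h₁ h₃) (ε₃ T)

@[reassoc]
lemma ε_c₀ : ε₃ T ≫ c₀ T T' a₁ a₃ φ hS h₁ h₃ = e₂ T T' a₁ a₃ φ hS h₁ h₃ :=
  Injective.comp_factorThru _ _

lemma ε_g_c₀_f : ε₂ T ≫ T.g.f 0 ≫ c₀ T T' a₁ a₃ φ hS h₁ h₃ ≫ T'.f.f 0 =
    e T T' a₁ a₃ φ := by
  rw [ε_g_assoc, ε_c₀_assoc, g_e₂_assoc, e₁_f T T' a₁ a₃ φ h₃]

/-- The source of the "previous" map into `I₃ⁿ`. -/
noncomputable def prevObj : ℕ → C
  | 0 => S.X₃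
  | k + 1 => T.I₃.cocomplex.X k

/-- The "previous" map into `I₃ⁿ`: the augmentation for `n = 0`, the differential otherwise. -/
noncomputable def prev : ∀ n : ℕ, prevObj T n ⟶ T.I₃.cocomplex.X n
  | 0 => ε₃ T
  | n + 1 => T.I₃.cocomplex.d n (n + 1)

lemma prev_d : ∀ n : ℕ, prev T n ≫ T.I₃.cocomplex.d n (n + 1) = 0
  | 0 => ε₃_d T
  | _ + 1 => T.I₃.cocomplex.d_comp_d _ _ _

lemma prev_exact : ∀ n : ℕ,
    (ShortComplex.mk (prev T n) (T.I₃.cocomplex.d n (n + 1)) (prev_d T n)).Exact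
  | 0 => ε₃_exact T
  | n + 1 => T.I₃.exact_succ n

@[reassoc]
lemma d_desc (n : ℕ) {J : C} [Injective J] (k : T.I₃.cocomplex.X n ⟶ J)
    (hk : prev T n ≫ k = 0) :
    T.I₃.cocomplex.d n (n + 1) ≫ (prev_exact T n).descToInjective k hk = k :=
  (prev_exact T n).comp_descToInjective k hk

/-- A stage of the recursive construction of the correction terms. -/
def Stage (n : ℕ) : Type v :=
  { c : T.I₃.cocomplex.X n ⟶ T'.I₁.cocomplex.X n //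
    prev T n ≫ (c ≫ T'.I₁.cocomplex.d n (n + 1) - Ebar T T' a₁ a₃ n) = 0 }

/-- The next stage. -/
noncomputable def next (n : ℕ) (st : Stage T T' a₁ a₃ n) : Stage T T' a₁ a₃ (n + 1) :=
  ⟨(prev_exact T n).descToInjective _ st.2, by
    change T.I₃.cocomplex.d n (n + 1) ≫ _ = 0
    rw [Preadditive.comp_sub, d_desc_assoc, Preadditive.sub_comp, Category.assoc,
      HomologicalComplex.d_comp_d, comp_zero, zero_sub, ← neg_add', neg_eq_zero]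
    exact cocycle T T' a₁ a₃ n⟩

include h₃ in
lemma stage0_cond :
    prev T 0 ≫ (c₀ T T' a₁ a₃ φ hS h₁ h₃ ≫ T'.I₁.cocomplex.d 0 1 - Ebar T T' a₁ a₃ 0) = 0 := by
  change ε₃ T ≫ _ = 0
  have : Epi S.g := hS.epi_g
  have h2 := ε_g_c₀_f T T' a₁ a₃ φ hS h₁ h₃
  have h2' : ε₂ T ≫ T.g.f 0 ≫ c₀ T T' a₁ a₃ φ hS h₁ h₃ ≫ T'.f.f 0 ≫ T'.I₂.cocomplex.d 0 1 =
      e T T' a₁ a₃ φ ≫ T'.I₂.cocomplex.d 0 1 := by
    rw [← h2]; simp only [Category.assoc]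
  have key : ε₂ T ≫ T.g.f 0 ≫
      (c₀ T T' a₁ a₃ φ hS h₁ h₃ ≫ T'.I₁.cocomplex.d 0 1 - Ebar T T' a₁ a₃ 0) ≫ T'.f.f 1 = 0 := by
    rw [Preadditive.sub_comp, Category.assoc, ← f_d, Preadditive.comp_sub, Preadditive.comp_sub,
      g_Ebar_f, h2', e, E]
    simp
  rw [← cancel_epi S.g, ← cancel_mono (T'.f.f 1), comp_zero, zero_comp, Category.assoc,
    Category.assoc, ← ε_g_assoc]
  exact key

/-- The initial stage. -/
noncomputable def stage0 : Stage T T' a₁ a₃ 0 :=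
  ⟨c₀ T T' a₁ a₃ φ hS h₁ h₃, stage0_cond T T' a₁ a₃ φ hS h₁ h₃⟩

/-- All stages. -/
noncomputable def stage : ∀ n : ℕ, Stage T T' a₁ a₃ n
  | 0 => stage0 T T' a₁ a₃ φ hS h₁ h₃
  | n + 1 => next T T' a₁ a₃ n (stage n)

/-- The correction terms. -/
noncomputable def c (n : ℕ) : T.I₃.cocomplex.X n ⟶ T'.I₁.cocomplex.X n :=
  (stage T T' a₁ a₃ φ hS h₁ h₃ n).1

@[reassoc]
lemma d_c (n : ℕ) : T.I₃.cocomplex.d n (n + 1) ≫ c T T' a₁ a₃ φ hS h₁ h₃ (n + 1) =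
    c T T' a₁ a₃ φ hS h₁ h₃ n ≫ T'.I₁.cocomplex.d n (n + 1) - Ebar T T' a₁ a₃ n :=
  (prev_exact T n).comp_descToInjective _ _

lemma c_zero : c T T' a₁ a₃ φ hS h₁ h₃ 0 = c₀ T T' a₁ a₃ φ hS h₁ h₃ := rfl

/-- The components of the lift. -/
noncomputable def a₂f (n : ℕ) : T.I₂.cocomplex.X n ⟶ T'.I₂.cocomplex.X n :=
  b T T' a₁ a₃ n + T.g.f n ≫ c T T' a₁ a₃ φ hS h₁ h₃ n ≫ T'.f.f n

lemma a₂f_comm (n : ℕ) : a₂f T T' a₁ a₃ φ hS h₁ h₃ n ≫ T'.I₂.cocomplex.d n (n + 1) =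
    T.I₂.cocomplex.d n (n + 1) ≫ a₂f T T' a₁ a₃ φ hS h₁ h₃ (n + 1) := by
  have h1 : T.I₂.cocomplex.d n (n + 1) ≫ T.g.f (n + 1) ≫ c T T' a₁ a₃ φ hS h₁ h₃ (n + 1) ≫
      T'.f.f (n + 1) = T.g.f n ≫ c T T' a₁ a₃ φ hS h₁ h₃ n ≫ T'.I₁.cocomplex.d n (n + 1) ≫
        T'.f.f (n + 1) - E T T' a₁ a₃ n := by
    rw [← g_d_assoc, d_c_assoc, Preadditive.sub_comp, Preadditive.comp_sub, g_Ebar_f,
      Category.assoc]
  rw [a₂f, a₂f, Preadditive.add_comp, Preadditive.comp_add, h1, Category.assoc, Category.assoc,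
    f_d, E]
  abel

/-- The lift. -/
noncomputable def a₂ : T.I₂.cocomplex ⟶ T'.I₂.cocomplex :=
  CochainComplex.ofHom (a₂f T T' a₁ a₃ φ hS h₁ h₃) (a₂f_comm T T' a₁ a₃ φ hS h₁ h₃)

lemma f_a₂ : T.f ≫ a₂ T T' a₁ a₃ φ hS h₁ h₃ = a₁ ≫ T'.f := by
  ext n
  change T.f.f n ≫ a₂f T T' a₁ a₃ φ hS h₁ h₃ n = a₁.f n ≫ T'.f.f n
  rw [a₂f, Preadditive.comp_add, f_b, f_g_assoc, zero_comp, add_zero]

lemma a₂_g : a₂ T T' a₁ a₃ φ hS h₁ h₃ ≫ T'.g = T.g ≫ a₃ := by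
  ext n
  change a₂f T T' a₁ a₃ φ hS h₁ h₃ n ≫ T'.g.f n = T.g.f n ≫ a₃.f n
  rw [a₂f, Preadditive.add_comp, b_g, Category.assoc, Category.assoc, f_g, comp_zero, comp_zero,
    add_zero]

end Construction

end Groth.Agent.Lib.Helper22.Horseshoe.Lift
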