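import Groth.Agent.Lib.Helper22.Horseshoe.Exists
import Groth.Agent.Lib.Helper22.Horseshoe.Lift
import Mathlib.Algebra.Homology.HomologySequenceLemmas

/-!
# The long exact sequence of right derived functors

* `delta_naturality`: naturality (and hence independence of the resolution) of `RDer.SESRes.delta`;
* `derivedLES F : RDer.DerivedLES F` for an additive functor on an abelian category with enough
  injectives.
-/

set_option autoImplicit false
set_option linter.style.haveILetI false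

universe v u v' u'

open CategoryTheory CategoryTheory.Limits

namespace Groth.Agent.Lib.Helper22.Horseshoe

variable {C : Type u} [Category.{v} C] [Abelian C] {D : Type u'} [Category.{v'} D] [Abelian D]

lemma comm_aux {E : Type*} [Category E] {A A' B B' P P' Q Q' : E}
    {a : A ⟶ A'} {i3' : A' ⟶ P'} {i3 : A ⟶ P} {H3 : P ⟶ P'}
    {j1 : Q ⟶ B} {b : B ⟶ B'} {H1 : Q ⟶ Q'} {j1' : Q' ⟶ B'}
    {δT : P ⟶ Q} {δT' : P' ⟶ Q'}
    (e3 : a ≫ i3' = i3 ≫ H3) (e1 : j1 ≫ b = H1 ≫ j1') (eδ : δT ≫ H1 = H3 ≫ δT') :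
    a ≫ (i3' ≫ δT' ≫ j1') = (i3 ≫ δT ≫ j1) ≫ b := by
  rw [reassoc_of% e3, Category.assoc, Category.assoc, e1, reassoc_of% eδ]

lemma zero_aux₁ {E : Type*} [Category E] [HasZeroMorphisms E] {A A' P P' Q B : E}
    {a : A ⟶ A'} {i3 : A' ⟶ P'} {i2 : A ⟶ P} {Hg : P ⟶ P'} {δ : P' ⟶ Q} {j1 : Q ⟶ B}
    (sq : a ≫ i3 = i2 ≫ Hg) (z : Hg ≫ δ = 0) : a ≫ (i3 ≫ δ ≫ j1) = 0 := by
  rw [reassoc_of% sq, reassoc_of% z, zero_comp, comp_zero]

lemma zero_aux₂ {E : Type*} [Category E] [HasZeroMorphisms E] {A P Q Q' B B' : E}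
    {i3 : A ⟶ P} {δ : P ⟶ Q} {j1 : Q ⟶ B} {b : B ⟶ B'} {Hf : Q ⟶ Q'} {j2 : Q' ⟶ B'}
    (sq : j1 ≫ b = Hf ≫ j2) (z : δ ≫ Hf = 0) : (i3 ≫ δ ≫ j1) ≫ b = 0 := by
  rw [Category.assoc, Category.assoc, sq, reassoc_of% z, zero_comp, comp_zero]

section Naturality

variable {S S' : ShortComplex C} (T : RDer.SESRes S) (T' : RDer.SESRes S') (φ : S ⟶ S')

/-- A morphism of short exact sequences of complexes lifting `φ`. -/
theorem exists_lift :
    ∃ (Φ : T.cx ⟶ T'.cx), T.I₁.ι.f 0 ≫ Φ.τ₁.f 0 = φ.τ₁ ≫ T'.I₁.ι.f 0 ∧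
      T.I₃.ι.f 0 ≫ Φ.τ₃.f 0 = φ.τ₃ ≫ T'.I₃.ι.f 0 := by
  have hS : S.ShortExact := Lift.shortExact_of_sesRes T
  let a₁ : T.I₁.cocomplex ⟶ T'.I₁.cocomplex := InjectiveResolution.desc φ.τ₁ T'.I₁ T.I₁
  let a₃ : T.I₃.cocomplex ⟶ T'.I₃.cocomplex := InjectiveResolution.desc φ.τ₃ T'.I₃ T.I₃
  have h₁ : Lift.ε₁ T ≫ a₁.f 0 = φ.τ₁ ≫ Lift.ε₁ T' :=
    InjectiveResolution.desc_commutes_zero φ.τ₁ T'.I₁ T.I₁
  have h₃ : Lift.ε₃ T ≫ a₃.f 0 = φ.τ₃ ≫ Lift.ε₃ T' :=
    InjectiveResolution.desc_commutes_zero φ.τ₃ T'.I₃ T.I₃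
  refine ⟨{ τ₁ := a₁
            τ₂ := Lift.a₂ T T' a₁ a₃ φ hS h₁ h₃
            τ₃ := a₃
            comm₁₂ := (Lift.f_a₂ T T' a₁ a₃ φ hS h₁ h₃).symm
            comm₂₃ := Lift.a₂_g T T' a₁ a₃ φ hS h₁ h₃ }, h₁, h₃⟩

variable [HasInjectiveResolutions C] (F : C ⥤ D) [F.Additive]

/-- Naturality of the connecting morphisms computed from resolutions. -/
theorem delta_naturality (n₀ n₁ : ℕ) (h : n₀ + 1 = n₁) :
    (F.rightDerived n₀).map φ.τ₃ ≫ T'.delta F n₀ n₁ h =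
      T.delta F n₀ n₁ h ≫ (F.rightDerived n₁).map φ.τ₁ := by
  obtain ⟨Φ, h₁, h₃⟩ := exists_lift T T' φ
  have e3 := InjectiveResolution.isoRightDerivedObj_hom_naturality φ.τ₃ T.I₃ T'.I₃ Φ.τ₃ h₃ F n₀
  have e1 := InjectiveResolution.isoRightDerivedObj_inv_naturality φ.τ₁ T.I₁ T'.I₁ Φ.τ₁ h₁ F n₁
  have eδ := HomologicalComplex.HomologySequence.δ_naturality
    ((F.mapHomologicalComplex (ComplexShape.up ℕ)).mapShortComplex.map Φ)
    (T.map_shortExact F) (T'.map_shortExact F) n₀ n₁ h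
  exact comm_aux e3 e1 eδ

/-- Independence of the resolution. -/
theorem delta_eq (T₁ T₂ : RDer.SESRes S) (n₀ n₁ : ℕ) (h : n₀ + 1 = n₁) :
    T₁.delta F n₀ n₁ h = T₂.delta F n₀ n₁ h := by
  have := delta_naturality T₁ T₂ (𝟙 S) F n₀ n₁ h
  simpa using this.symm

end Naturality

section Exactness

variable [HasInjectiveResolutions C] (F : C ⥤ D) [F.Additive]
  {S : ShortComplex C} (T : RDer.SESRes S)

lemma sq_f (n : ℕ) :
    (F.rightDerived n).map S.f ≫ (T.I₂.isoRightDerivedObj F n).hom =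
      (T.I₁.isoRightDerivedObj F n).hom ≫
        HomologicalComplex.homologyMap ((F.mapHomologicalComplex _).map T.f) n :=
  InjectiveResolution.isoRightDerivedObj_hom_naturality S.f T.I₁ T.I₂ T.f (Lift.ε_f T) F n

lemma sq_g (n : ℕ) :
    (F.rightDerived n).map S.g ≫ (T.I₃.isoRightDerivedObj F n).hom =
      (T.I₂.isoRightDerivedObj F n).hom ≫
        HomologicalComplex.homologyMap ((F.mapHomologicalComplex _).map T.g) n :=
  InjectiveResolution.isoRightDerivedObj_hom_naturality S.g T.I₂ T.I₃ T.g (Lift.ε_g T) F n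

omit T in
lemma map_f_map_g (n : ℕ) : (F.rightDerived n).map S.f ≫ (F.rightDerived n).map S.g = 0 := by
  rw [← Functor.map_comp, S.zero, Functor.map_zero]

lemma sq_f_inv (n : ℕ) :
    (T.I₁.isoRightDerivedObj F n).inv ≫ (F.rightDerived n).map S.f =
      HomologicalComplex.homologyMap ((F.mapHomologicalComplex _).map T.f) n ≫
        (T.I₂.isoRightDerivedObj F n).inv :=
  InjectiveResolution.isoRightDerivedObj_inv_naturality S.f T.I₁ T.I₂ T.f (Lift.ε_f T) F n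

include T in
/-- Exactness at `RⁿF(X₂)`. -/
theorem exact₂ (n : ℕ) :
    (ShortComplex.mk ((F.rightDerived n).map S.f) ((F.rightDerived n).map S.g)
      (map_f_map_g F n)).Exact := by
  refine ShortComplex.exact_of_iso (ShortComplex.isoMk (T.I₁.isoRightDerivedObj F n)
    (T.I₂.isoRightDerivedObj F n) (T.I₃.isoRightDerivedObj F n) ?_ ?_).symm
    ((T.map_shortExact F).homology_exact₂ n)
  · exact (sq_f F T n).symm
  · exact (sq_g F T n).symm

@[reassoc]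
lemma delta_comp_iso (n₀ n₁ : ℕ) (h : n₀ + 1 = n₁) :
    T.delta F n₀ n₁ h ≫ (T.I₁.isoRightDerivedObj F n₁).hom =
      (T.I₃.isoRightDerivedObj F n₀).hom ≫ (T.map_shortExact F).δ n₀ n₁ h :=
  T.delta_comp_isoRightDerivedObj_hom F n₀ n₁ h

theorem comp_delta (n₀ n₁ : ℕ) (h : n₀ + 1 = n₁) :
    (F.rightDerived n₀).map S.g ≫ T.delta F n₀ n₁ h = 0 := by
  exact zero_aux₁ (sq_g F T n₀) ((T.map_shortExact F).comp_δ n₀ n₁ h)

theorem delta_comp (n₀ n₁ : ℕ) (h : n₀ + 1 = n₁) :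
    T.delta F n₀ n₁ h ≫ (F.rightDerived n₁).map S.f = 0 := by
  exact zero_aux₂ (sq_f_inv F T n₁) ((T.map_shortExact F).δ_comp n₀ n₁ h)

/-- Exactness at `Rⁿ⁰F(X₃)`. -/
theorem exact₃ (n₀ n₁ : ℕ) (h : n₀ + 1 = n₁) :
    (ShortComplex.mk ((F.rightDerived n₀).map S.g) (T.delta F n₀ n₁ h)
      (comp_delta F T n₀ n₁ h)).Exact := by
  refine ShortComplex.exact_of_iso (ShortComplex.isoMk (T.I₂.isoRightDerivedObj F n₀)
    (T.I₃.isoRightDerivedObj F n₀) (T.I₁.isoRightDerivedObj F n₁) ?_ ?_).symm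
    ((T.map_shortExact F).homology_exact₃ n₀ n₁ h)
  · exact (sq_g F T n₀).symm
  · exact (delta_comp_iso F T n₀ n₁ h).symm

/-- Exactness at `Rⁿ¹F(X₁)`. -/
theorem exact₁ (n₀ n₁ : ℕ) (h : n₀ + 1 = n₁) :
    (ShortComplex.mk (T.delta F n₀ n₁ h) ((F.rightDerived n₁).map S.f)
      (delta_comp F T n₀ n₁ h)).Exact := by
  refine ShortComplex.exact_of_iso (ShortComplex.isoMk (T.I₃.isoRightDerivedObj F n₀)
    (T.I₁.isoRightDerivedObj F n₁) (T.I₂.isoRightDerivedObj F n₁) ?_ ?_).symm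
    ((T.map_shortExact F).homology_exact₁ n₀ n₁ h)
  · exact (delta_comp_iso F T n₀ n₁ h).symm
  · exact (sq_f F T n₁).symm

include T in
/-- `R⁰F` sends the first map of a short exact sequence to a monomorphism. -/
theorem mono_rightDerived_zero_map : Mono ((F.rightDerived 0).map S.f) := by
  have hm : Mono (((F.mapHomologicalComplex (ComplexShape.up ℕ)).map T.f).f 0) := by
    have : IsSplitMono (F.map (T.f.f 0)) :=
      IsSplitMono.mk' ⟨F.map (Lift.r T 0), by rw [← F.map_comp, Lift.f_r, F.map_id]⟩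
    exact inferInstanceAs (Mono (F.map (T.f.f 0)))
  have h2 : Mono (HomologicalComplex.homologyMap
      ((F.mapHomologicalComplex (ComplexShape.up ℕ)).map T.f) 0) :=
    HomologicalComplex.mono_homologyMap_of_mono_of_not_rel _ 0 (by simp)
  have h3 : Mono ((F.rightDerived 0).map S.f ≫ (T.I₂.isoRightDerivedObj F 0).hom) := by
    rw [sq_f]
    exact mono_comp' inferInstance h2
  exact mono_of_mono _ (T.I₂.isoRightDerivedObj F 0).hom

end Exactness

section Main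

variable [EnoughInjectives C] (F : C ⥤ D) [F.Additive]

/-- The connecting morphisms of the right derived functors, with their long exact sequence. -/
noncomputable def derivedLES : RDer.DerivedLES F where
  δ S hS n₀ n₁ h := (sesRes S hS).delta F n₀ n₁ h
  δ_eq _ _ T n₀ n₁ h := delta_eq F _ T n₀ n₁ h
  δ_natural hS hS' φ n₀ n₁ h := delta_naturality (sesRes _ hS) (sesRes _ hS') φ F n₀ n₁ h
  exact₂ S hS n := exact₂ F (sesRes S hS) n
  comp_δ S hS n₀ n₁ h := comp_delta F (sesRes S hS) n₀ n₁ h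
  exact₃ S hS n₀ n₁ h := exact₃ F (sesRes S hS) n₀ n₁ h
  δ_comp S hS n₀ n₁ h := delta_comp F (sesRes S hS) n₀ n₁ h
  exact₁ S hS n₀ n₁ h := exact₁ F (sesRes S hS) n₀ n₁ h

/-- `R⁰F` is left exact. -/
instance preservesFiniteLimits_rightDerived_zero : PreservesFiniteLimits (F.rightDerived 0) := by
  rw [Functor.preservesFiniteLimits_iff_forall_exact_map_and_mono]
  intro S hS
  exact ⟨exact₂ F (sesRes S hS) 0, mono_rightDerived_zero_map F (sesRes S hS)⟩

end Main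

end Groth.Agent.Lib.Helper22.Horseshoe
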