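import Mathlib.Algebra.Homology.ShortComplex.SnakeLemma
import Mathlib.Algebra.Homology.ShortComplex.Limits
import Mathlib.CategoryTheory.Abelian.Injective.Resolution

/-!
# One step of the horseshoe construction

For a short exact sequence `S` in an abelian category with enough injectives we construct a
split short exact sequence `JS S` of injective objects, a componentwise monomorphism
`ιS S : S ⟶ JS S` and its cokernel `QS S`, which is again short exact (3×3 lemma).
-/

set_option autoImplicit false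
set_option linter.style.haveILetI false

universe v u

open CategoryTheory CategoryTheory.Limits

namespace Groth.Agent.Lib.Helper22.Horseshoe

variable {C : Type u} [Category.{v} C] [Abelian C]

section ThreeByThree

variable {S J : ShortComplex C} (φ : S ⟶ J) (hS : S.ShortExact) (hJ : J.ShortExact)

/-- The snake input attached to a morphism of short exact sequences. -/
noncomputable def snake : ShortComplex.SnakeInput C where
  L₀ := kernel φ
  L₁ := S
  L₂ := J
  L₃ := cokernel φ
  v₀₁ := kernel.ι φ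
  v₁₂ := φ
  v₂₃ := cokernel.π φ
  w₀₂ := kernel.condition φ
  w₁₃ := cokernel.condition φ
  h₀ := kernelIsKernel φ
  h₃ := cokernelIsCokernel φ
  L₁_exact := hS.exact
  epi_L₁_g := hS.epi_g
  L₂_exact := hJ.exact
  mono_L₂_f := hJ.mono_f

include hS hJ in
lemma cokernel_shortExact [Mono φ.τ₃] : (cokernel φ).ShortExact := by
  let T := snake φ hS hJ
  have h0 : IsZero T.L₀.X₃ := by
    have h1 : T.v₀₁.τ₃ ≫ φ.τ₃ = 0 := T.w₀₂_τ₃
    have h2 : T.v₀₁.τ₃ = 0 := (cancel_mono φ.τ₃).1 (h1.trans zero_comp.symm)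
    exact IsZero.of_mono_eq_zero _ h2
  have hm : Mono T.L₃.f := T.L₂'_exact.mono_g (h0.eq_of_src _ _)
  have he : Epi T.L₃.g := by
    have : Epi T.L₂.g := hJ.epi_g
    exact T.epi_L₃_g
  exact { exact := T.L₃_exact, mono_f := hm, epi_g := he }

include hS hJ in
lemma shortExact_τ₁ [Mono φ.τ₁] :
    (ShortComplex.mk φ.τ₁ (cokernel.π φ).τ₁ (snake φ hS hJ).w₁₃_τ₁).ShortExact :=
  { exact := (snake φ hS hJ).exact_C₁_down
    mono_f := inferInstanceAs (Mono φ.τ₁)
    epi_g := (snake φ hS hJ).epi_v₂₃_τ₁ }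

include hS hJ in
lemma shortExact_τ₂ [Mono φ.τ₂] :
    (ShortComplex.mk φ.τ₂ (cokernel.π φ).τ₂ (snake φ hS hJ).w₁₃_τ₂).ShortExact :=
  { exact := (snake φ hS hJ).exact_C₂_down
    mono_f := inferInstanceAs (Mono φ.τ₂)
    epi_g := (snake φ hS hJ).epi_v₂₃_τ₂ }

include hS hJ in
lemma shortExact_τ₃ [Mono φ.τ₃] :
    (ShortComplex.mk φ.τ₃ (cokernel.π φ).τ₃ (snake φ hS hJ).w₁₃_τ₃).ShortExact :=
  { exact := (snake φ hS hJ).exact_C₃_down
    mono_f := inferInstanceAs (Mono φ.τ₃)
    epi_g := (snake φ hS hJ).epi_v₂₃_τ₃ }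

end ThreeByThree

section Step

variable [EnoughInjectives C] (S : ShortComplex C)

/-- The split short complex `J₁ ⟶ J₁ ⊞ J₃ ⟶ J₃` of injectives. -/
noncomputable def JS : ShortComplex C :=
  ShortComplex.mk (biprod.inl : Injective.under S.X₁ ⟶ Injective.under S.X₁ ⊞ Injective.under S.X₃)
    biprod.snd biprod.inl_snd

lemma JS_shortExact : (JS S).ShortExact :=
  (ShortComplex.Splitting.ofHasBinaryBiproduct _ _).shortExact

instance : Injective (JS S).X₁ := inferInstanceAs (Injective (Injective.under S.X₁))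
instance : Injective (JS S).X₃ := inferInstanceAs (Injective (Injective.under S.X₃))
instance : Injective (JS S).X₂ :=
  inferInstanceAs (Injective (Injective.under S.X₁ ⊞ Injective.under S.X₃))

variable {S} (hS : S.ShortExact)

/-- An extension of `X₁ ⟶ J₁` to `X₂`. -/
noncomputable def σS : S.X₂ ⟶ Injective.under S.X₁ :=
  have := hS.mono_f
  Injective.factorThru (Injective.ι S.X₁) S.f

@[reassoc (attr := simp)]
lemma f_σS : S.f ≫ σS hS = Injective.ι S.X₁ := by
  have := hS.mono_f
  exact Injective.comp_factorThru _ _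

/-- The componentwise monomorphism `S ⟶ JS S`. -/
noncomputable def ιS : S ⟶ JS S where
  τ₁ := Injective.ι S.X₁
  τ₂ := biprod.lift (σS hS) (S.g ≫ Injective.ι S.X₃)
  τ₃ := Injective.ι S.X₃
  comm₁₂ := by
    dsimp [JS]
    ext
    · simp
    · simp
  comm₂₃ := by
    dsimp [JS]
    simp

instance : Mono (ιS hS).τ₁ := inferInstanceAs (Mono (Injective.ι S.X₁))
instance : Mono (ιS hS).τ₃ := inferInstanceAs (Mono (Injective.ι S.X₃))

instance : Mono (ιS hS).τ₂ := by
  have := hS.mono_f
  have : Mono (JS S).f := (JS_shortExact S).mono_f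
  exact ShortComplex.mono_τ₂_of_exact_of_mono (ιS hS) hS.exact

/-- The cokernel short exact sequence. -/
noncomputable def QS : ShortComplex C := cokernel (ιS hS)

lemma QS_shortExact : (QS hS).ShortExact :=
  cokernel_shortExact (ιS hS) hS (JS_shortExact S)

/-- The projection `JS S ⟶ QS S`. -/
noncomputable def πS : JS S ⟶ QS hS := cokernel.π (ιS hS)

@[reassoc (attr := simp)]
lemma ιS_πS : ιS hS ≫ πS hS = 0 := cokernel.condition _

lemma ιπ_shortExact₁ :
    (ShortComplex.mk (ιS hS).τ₁ (πS hS).τ₁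
      (by rw [← ShortComplex.comp_τ₁, ιS_πS]; rfl)).ShortExact :=
  shortExact_τ₁ (ιS hS) hS (JS_shortExact S)

lemma ιπ_shortExact₂ :
    (ShortComplex.mk (ιS hS).τ₂ (πS hS).τ₂
      (by rw [← ShortComplex.comp_τ₂, ιS_πS]; rfl)).ShortExact :=
  shortExact_τ₂ (ιS hS) hS (JS_shortExact S)

lemma ιπ_shortExact₃ :
    (ShortComplex.mk (ιS hS).τ₃ (πS hS).τ₃
      (by rw [← ShortComplex.comp_τ₃, ιS_πS]; rfl)).ShortExact :=
  shortExact_τ₃ (ιS hS) hS (JS_shortExact S)

end Step

end Groth.Agent.Lib.Helper22.Horseshoe
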