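import Groth.Agent.Lib.Helper22.Horseshoe.Splice
import Groth.Agent.Lib.Helper22.Horseshoe.Step
import Groth.Prelude.Def_RDerDelta

/-!
# The horseshoe lemma for injective resolutions

Every short exact sequence in an abelian category with enough injectives has an injective
resolution in the sense of `RDer.SESRes`.
-/

set_option autoImplicit false
set_option linter.style.haveILetI false

universe v u

open CategoryTheory CategoryTheory.Limits

namespace Groth.Agent.Lib.Helper22.Horseshoe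

variable {C : Type u} [Category.{v} C] [Abelian C] [EnoughInjectives C]

section

variable (S : ShortComplex C) (hS : S.ShortExact)

/-- The iterated cokernel short exact sequences. -/
noncomputable def iter : ℕ → {T : ShortComplex C // T.ShortExact}
  | 0 => ⟨S, hS⟩
  | n + 1 => ⟨QS (iter n).2, QS_shortExact _⟩

/-- The `n`-th short exact sequence. -/
noncomputable abbrev Sn (n : ℕ) : ShortComplex C := (iter S hS n).1

lemma hSn (n : ℕ) : (Sn S hS n).ShortExact := (iter S hS n).2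

/-- The `n`-th split sequence of injectives. -/
noncomputable abbrev Jn (n : ℕ) : ShortComplex C := JS (Sn S hS n)

/-- The inclusion `Sn n ⟶ Jn n`. -/
noncomputable def ιn (n : ℕ) : Sn S hS n ⟶ Jn S hS n := ιS (hSn S hS n)

/-- The projection `Jn n ⟶ Sn (n + 1)`. -/
noncomputable def πn (n : ℕ) : Jn S hS n ⟶ Sn S hS (n + 1) := πS (hSn S hS n)

@[reassoc (attr := simp)]
lemma ιn_πn (n : ℕ) : ιn S hS n ≫ πn S hS n = 0 := ιS_πS _

/-- The differential. -/
noncomputable def dn (n : ℕ) : Jn S hS n ⟶ Jn S hS (n + 1) := πn S hS n ≫ ιn S hS (n + 1)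

@[reassoc (attr := simp)]
lemma dn_comp_dn (n : ℕ) : dn S hS n ≫ dn S hS (n + 1) = 0 := by
  simp [dn]

/-- The first complex. -/
noncomputable def K₁ : CochainComplex C ℕ :=
  CochainComplex.of (fun n => (Jn S hS n).X₁) (fun n => (dn S hS n).τ₁)
    (fun n => by rw [← ShortComplex.comp_τ₁, dn_comp_dn]; rfl)

/-- The second complex. -/
noncomputable def K₂ : CochainComplex C ℕ :=
  CochainComplex.of (fun n => (Jn S hS n).X₂) (fun n => (dn S hS n).τ₂)
    (fun n => by rw [← ShortComplex.comp_τ₂, dn_comp_dn]; rfl)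

/-- The third complex. -/
noncomputable def K₃ : CochainComplex C ℕ :=
  CochainComplex.of (fun n => (Jn S hS n).X₃) (fun n => (dn S hS n).τ₃)
    (fun n => by rw [← ShortComplex.comp_τ₃, dn_comp_dn]; rfl)

@[simp] lemma K₁_d (n : ℕ) : (K₁ S hS).d n (n + 1) = (dn S hS n).τ₁ := by
  exact CochainComplex.of_d (V := C) (fun n => (Jn S hS n).X₁) (fun n => (dn S hS n).τ₁) n
@[simp] lemma K₂_d (n : ℕ) : (K₂ S hS).d n (n + 1) = (dn S hS n).τ₂ := by
  exact CochainComplex.of_d (V := C) (fun n => (Jn S hS n).X₂) (fun n => (dn S hS n).τ₂) n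
@[simp] lemma K₃_d (n : ℕ) : (K₃ S hS).d n (n + 1) = (dn S hS n).τ₃ := by
  exact CochainComplex.of_d (V := C) (fun n => (Jn S hS n).X₃) (fun n => (dn S hS n).τ₃) n

/-- The map `K₁ ⟶ K₂`. -/
noncomputable def fK : K₁ S hS ⟶ K₂ S hS :=
  CochainComplex.ofHom (fun n => (Jn S hS n).f) (fun n => by
    rw [K₁_d, K₂_d]
    exact ((dn S hS n).comm₁₂).symm)

/-- The map `K₂ ⟶ K₃`. -/
noncomputable def gK : K₂ S hS ⟶ K₃ S hS :=
  CochainComplex.ofHom (fun n => (Jn S hS n).g) (fun n => by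
    rw [K₂_d, K₃_d]
    exact ((dn S hS n).comm₂₃).symm)

@[simp] lemma fK_f (n : ℕ) : (fK S hS).f n = (Jn S hS n).f := rfl
@[simp] lemma gK_f (n : ℕ) : (gK S hS).f n = (Jn S hS n).g := rfl

lemma fK_gK : fK S hS ≫ gK S hS = 0 := by
  ext n
  exact (Jn S hS n).zero

lemma ιπ₁ (n : ℕ) : (ιn S hS n).τ₁ ≫ (πn S hS n).τ₁ = 0 := by
  rw [← ShortComplex.comp_τ₁, ιn_πn]; rfl

lemma ιπ₂ (n : ℕ) : (ιn S hS n).τ₂ ≫ (πn S hS n).τ₂ = 0 := by
  rw [← ShortComplex.comp_τ₂, ιn_πn]; rfl

lemma ιπ₃ (n : ℕ) : (ιn S hS n).τ₃ ≫ (πn S hS n).τ₃ = 0 := by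
  rw [← ShortComplex.comp_τ₃, ιn_πn]; rfl

/-- Splicing data for `K₁`. -/
noncomputable def splice₁ : Splice (K₁ S hS) where
  Z n := (Sn S hS n).X₁
  i n := (ιn S hS n).τ₁
  p n := (πn S hS n).τ₁
  w n := ιπ₁ S hS n
  se n := ιπ_shortExact₁ (hSn S hS n)
  hd n := K₁_d S hS n

/-- Splicing data for `K₂`. -/
noncomputable def splice₂ : Splice (K₂ S hS) where
  Z n := (Sn S hS n).X₂
  i n := (ιn S hS n).τ₂
  p n := (πn S hS n).τ₂
  w n := ιπ₂ S hS n
  se n := ιπ_shortExact₂ (hSn S hS n)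
  hd n := K₂_d S hS n

/-- Splicing data for `K₃`. -/
noncomputable def splice₃ : Splice (K₃ S hS) where
  Z n := (Sn S hS n).X₃
  i n := (ιn S hS n).τ₃
  p n := (πn S hS n).τ₃
  w n := ιπ₃ S hS n
  se n := ιπ_shortExact₃ (hSn S hS n)
  hd n := K₃_d S hS n

/-- The horseshoe resolution. -/
noncomputable def sesRes : RDer.SESRes S where
  I₁ := (splice₁ S hS).resolution (fun n => inferInstanceAs (Injective (Jn S hS n).X₁))
  I₂ := (splice₂ S hS).resolution (fun n => inferInstanceAs (Injective (Jn S hS n).X₂))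
  I₃ := (splice₃ S hS).resolution (fun n => inferInstanceAs (Injective (Jn S hS n).X₃))
  f := fK S hS
  g := gK S hS
  zero := fK_gK S hS
  ι_f := by
    apply HomologicalComplex.from_single_hom_ext
    change (splice₁ S hS).ι.f 0 ≫ (fK S hS).f 0 =
      ((CochainComplex.single₀ C).map S.f).f 0 ≫ (splice₂ S hS).ι.f 0
    rw [Splice.ι_f_zero, Splice.ι_f_zero, CochainComplex.single₀_map_f_zero]
    exact (ιn S hS 0).comm₁₂
  ι_g := by
    apply HomologicalComplex.from_single_hom_ext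
    change (splice₂ S hS).ι.f 0 ≫ (gK S hS).f 0 =
      ((CochainComplex.single₀ C).map S.g).f 0 ≫ (splice₃ S hS).ι.f 0
    rw [Splice.ι_f_zero, Splice.ι_f_zero, CochainComplex.single₀_map_f_zero]
    exact (ιn S hS 0).comm₂₃
  shortExact := by
    apply HomologicalComplex.shortExact_of_degreewise_shortExact
    intro n
    exact JS_shortExact (Sn S hS n)

end

/-- **Horseshoe lemma.** -/
theorem nonempty_sesRes (S : ShortComplex C) (hS : S.ShortExact) : Nonempty (RDer.SESRes S) :=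
  ⟨sesRes S hS⟩

end Groth.Agent.Lib.Helper22.Horseshoe
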