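import Mathlib.Algebra.Homology.ShortComplex.SnakeLemma
import Mathlib.Algebra.Homology.ShortComplex.Limits
import Mathlib.CategoryTheory.Abelian.Projective.Resolution
import Groth.Agent.Lib.Helper22.Horseshoe.Step

/-!
# One step of the horseshoe construction, projective version

For a short exact sequence `S` in an abelian category with enough projectives we construct a
split short exact sequence `PS S` of projective objects, a componentwise epimorphism
`πP S : PS S ⟶ S` and its kernel `KS S`, which is again short exact (3×3 lemma).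
-/

set_option autoImplicit false
set_option linter.style.haveILetI false

universe v u

open CategoryTheory CategoryTheory.Limits

namespace Groth.Agent.Lib.Helper22.Horseshoe

variable {C : Type u} [Category.{v} C] [Abelian C]

section ThreeByThree

variable {P S : ShortComplex C} (φ : P ⟶ S) (hP : P.ShortExact) (hS : S.ShortExact)

include hP hS in
lemma kernel_shortExact [Epi φ.τ₁] : (kernel φ).ShortExact := by
  let T := snake φ hP hS
  have h0 : IsZero T.L₃.X₁ := by
    have h1 : φ.τ₁ ≫ T.v₂₃.τ₁ = 0 := T.w₁₃_τ₁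
    have h2 : T.v₂₃.τ₁ = 0 := (cancel_epi φ.τ₁).1 (h1.trans comp_zero.symm)
    exact IsZero.of_epi_eq_zero _ h2
  have he : Epi T.L₀.g := T.L₁'_exact.epi_f (h0.eq_of_tgt _ _)
  have hm : Mono T.L₀.f := by
    haveI : Mono T.L₁.f := hP.mono_f
    exact T.mono_L₀_f
  exact { exact := T.L₀_exact, mono_f := hm, epi_g := he }

include hP hS in
lemma kshortExact_τ₁ [Epi φ.τ₁] :
    (ShortComplex.mk (kernel.ι φ).τ₁ φ.τ₁ (snake φ hP hS).w₀₂_τ₁).ShortExact :=
  { exact := (snake φ hP hS).exact_C₁_up
    mono_f := (snake φ hP hS).mono_v₀₁_τ₁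
    epi_g := inferInstanceAs (Epi φ.τ₁) }

include hP hS in
lemma kshortExact_τ₂ [Epi φ.τ₂] :
    (ShortComplex.mk (kernel.ι φ).τ₂ φ.τ₂ (snake φ hP hS).w₀₂_τ₂).ShortExact :=
  { exact := (snake φ hP hS).exact_C₂_up
    mono_f := (snake φ hP hS).mono_v₀₁_τ₂
    epi_g := inferInstanceAs (Epi φ.τ₂) }

include hP hS in
lemma kshortExact_τ₃ [Epi φ.τ₃] :
    (ShortComplex.mk (kernel.ι φ).τ₃ φ.τ₃ (snake φ hP hS).w₀₂_τ₃).ShortExact :=
  { exact := (snake φ hP hS).exact_C₃_up
    mono_f := (snake φ hP hS).mono_v₀₁_τ₃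
    epi_g := inferInstanceAs (Epi φ.τ₃) }

end ThreeByThree

section Step

variable [EnoughProjectives C] (S : ShortComplex C)

/-- The split short complex `P₁ ⟶ P₁ ⊞ P₃ ⟶ P₃` of projectives. -/
noncomputable def PS : ShortComplex C :=
  ShortComplex.mk (biprod.inl : Projective.over S.X₁ ⟶ Projective.over S.X₁ ⊞ Projective.over S.X₃)
    biprod.snd biprod.inl_snd

lemma PS_shortExact : (PS S).ShortExact :=
  (ShortComplex.Splitting.ofHasBinaryBiproduct _ _).shortExact

instance : Projective (PS S).X₁ := inferInstanceAs (Projective (Projective.over S.X₁))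
instance : Projective (PS S).X₃ := inferInstanceAs (Projective (Projective.over S.X₃))
instance : Projective (PS S).X₂ :=
  inferInstanceAs (Projective (Projective.over S.X₁ ⊞ Projective.over S.X₃))

variable {S} (hS : S.ShortExact)

/-- A lift of `P₃ ⟶ X₃` to `X₂`. -/
noncomputable def τS : Projective.over S.X₃ ⟶ S.X₂ :=
  haveI := hS.epi_g
  Projective.factorThru (Projective.π S.X₃) S.g

@[reassoc (attr := simp)]
lemma τS_g : τS hS ≫ S.g = Projective.π S.X₃ := by
  haveI := hS.epi_g
  exact Projective.factorThru_comp _ _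

/-- The componentwise epimorphism `PS S ⟶ S`. -/
noncomputable def πP : PS S ⟶ S where
  τ₁ := Projective.π S.X₁
  τ₂ := biprod.desc (Projective.π S.X₁ ≫ S.f) (τS hS)
  τ₃ := Projective.π S.X₃
  comm₁₂ := by
    dsimp [PS]
    simp
  comm₂₃ := by
    dsimp [PS]
    ext
    · simp
    · simp

instance : Epi (πP hS).τ₁ := inferInstanceAs (Epi (Projective.π S.X₁))
instance : Epi (πP hS).τ₃ := inferInstanceAs (Epi (Projective.π S.X₃))

instance : Epi (πP hS).τ₂ := by
  have := hS.epi_g
  have : Epi (PS S).g := (PS_shortExact S).epi_g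
  exact ShortComplex.epi_τ₂_of_exact_of_epi (πP hS) hS.exact

/-- The kernel short exact sequence. -/
noncomputable def KS : ShortComplex C := kernel (πP hS)

lemma KS_shortExact : (KS hS).ShortExact :=
  kernel_shortExact (πP hS) (PS_shortExact S) hS

/-- The inclusion `KS S ⟶ PS S`. -/
noncomputable def ιK : KS hS ⟶ PS S := kernel.ι (πP hS)

@[reassoc (attr := simp)]
lemma ιK_πP : ιK hS ≫ πP hS = 0 := kernel.condition _

lemma ιπ_kshortExact₁ :
    (ShortComplex.mk (ιK hS).τ₁ (πP hS).τ₁
      (by rw [← ShortComplex.comp_τ₁, ιK_πP]; rfl)).ShortExact :=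
  kshortExact_τ₁ (πP hS) (PS_shortExact S) hS

lemma ιπ_kshortExact₂ :
    (ShortComplex.mk (ιK hS).τ₂ (πP hS).τ₂
      (by rw [← ShortComplex.comp_τ₂, ιK_πP]; rfl)).ShortExact :=
  kshortExact_τ₂ (πP hS) (PS_shortExact S) hS

lemma ιπ_kshortExact₃ :
    (ShortComplex.mk (ιK hS).τ₃ (πP hS).τ₃
      (by rw [← ShortComplex.comp_τ₃, ιK_πP]; rfl)).ShortExact :=
  kshortExact_τ₃ (πP hS) (PS_shortExact S) hS

end Step

end Groth.Agent.Lib.Helper22.Horseshoe
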