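import Groth.Agent.Lib.Helper22.Horseshoe.SpliceP
import Groth.Agent.Lib.Helper22.Horseshoe.StepP
import Mathlib.CategoryTheory.Abelian.LeftDerived
import Mathlib.Algebra.Homology.HomologySequence
import Mathlib.Algebra.Homology.HomologicalComplexAbelian

/-!
# The horseshoe lemma for projective resolutions

`PSESRes S` is the dual of `RDer.SESRes S`: projective resolutions of the three objects of a
short complex forming a short exact sequence of chain complexes. Every short exact sequence in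
an abelian category with enough projectives has one (`psesRes`).
-/

set_option autoImplicit false
set_option linter.style.haveILetI false

universe v u v' u'

open CategoryTheory CategoryTheory.Limits

namespace Groth.Agent.Lib.Helper22.Horseshoe

variable {C : Type u} [Category.{v} C] [Abelian C]

/-- A projective resolution of a short complex. -/
structure PSESRes (S : ShortComplex C) where
  P₁ : ProjectiveResolution S.X₁
  P₂ : ProjectiveResolution S.X₂
  P₃ : ProjectiveResolution S.X₃
  f : P₁.complex ⟶ P₂.complex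
  g : P₂.complex ⟶ P₃.complex
  zero : f ≫ g = 0
  f_π : f ≫ P₂.π = P₁.π ≫ (ChainComplex.single₀ C).map S.f
  g_π : g ≫ P₃.π = P₂.π ≫ (ChainComplex.single₀ C).map S.g
  shortExact : (ShortComplex.mk f g zero).ShortExact

namespace PSESRes

variable {S : ShortComplex C} (T : PSESRes S)

/-- The short exact sequence of complexes. -/
abbrev cx : ShortComplex (ChainComplex C ℕ) := ShortComplex.mk T.f T.g T.zero

/-- The degreewise splitting. -/
noncomputable def splitting (n : ℕ) : (T.cx.map (HomologicalComplex.eval C _ n)).Splitting :=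
  have h : (T.cx.map (HomologicalComplex.eval C _ n)).ShortExact :=
    T.shortExact.map_of_exact (HomologicalComplex.eval C _ n)
  have : Mono (T.cx.map (HomologicalComplex.eval C _ n)).f := h.mono_f
  have : Epi (T.cx.map (HomologicalComplex.eval C _ n)).g := h.epi_g
  have : Projective (T.cx.map (HomologicalComplex.eval C _ n)).X₃ := T.P₃.projective n
  ShortComplex.Splitting.ofExactOfSection _ h.exact
    (Projective.factorThru (𝟙 _) (T.cx.map (HomologicalComplex.eval C _ n)).g)
    (Projective.factorThru_comp _ _) inferInstance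

variable {D : Type u'} [Category.{v'} D] [Abelian D]

theorem map_shortExact (F : C ⥤ D) [F.Additive] :
    (T.cx.map (F.mapHomologicalComplex (ComplexShape.down ℕ))).ShortExact := by
  apply HomologicalComplex.shortExact_of_degreewise_shortExact
  intro n
  exact ((T.splitting n).map F).shortExact

end PSESRes

section

variable [EnoughProjectives C] (S : ShortComplex C) (hS : S.ShortExact)

/-- The iterated kernel short exact sequences. -/
noncomputable def iterP : ℕ → {T : ShortComplex C // T.ShortExact}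
  | 0 => ⟨S, hS⟩
  | n + 1 => ⟨KS (iterP n).2, KS_shortExact _⟩

/-- The `n`-th short exact sequence. -/
noncomputable abbrev SnP (n : ℕ) : ShortComplex C := (iterP S hS n).1

lemma hSnP (n : ℕ) : (SnP S hS n).ShortExact := (iterP S hS n).2

/-- The `n`-th split sequence of projectives. -/
noncomputable abbrev Pn (n : ℕ) : ShortComplex C := PS (SnP S hS n)

/-- The projection `Pn n ⟶ SnP n`. -/
noncomputable def πPn (n : ℕ) : Pn S hS n ⟶ SnP S hS n := πP (hSnP S hS n)

/-- The inclusion `SnP (n + 1) ⟶ Pn n`. -/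
noncomputable def ιPn (n : ℕ) : SnP S hS (n + 1) ⟶ Pn S hS n := ιK (hSnP S hS n)

@[reassoc (attr := simp)]
lemma ιPn_πPn (n : ℕ) : ιPn S hS n ≫ πPn S hS n = 0 := ιK_πP _

/-- The differential. -/
noncomputable def dP (n : ℕ) : Pn S hS (n + 1) ⟶ Pn S hS n := πPn S hS (n + 1) ≫ ιPn S hS n

@[reassoc (attr := simp)]
lemma dP_comp_dP (n : ℕ) : dP S hS (n + 1) ≫ dP S hS n = 0 := by
  simp [dP]

/-- The first complex. -/
noncomputable def L₁ : ChainComplex C ℕ :=
  ChainComplex.of (fun n => (Pn S hS n).X₁) (fun n => (dP S hS n).τ₁)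
    (fun n => by rw [← ShortComplex.comp_τ₁, dP_comp_dP]; rfl)

/-- The second complex. -/
noncomputable def L₂ : ChainComplex C ℕ :=
  ChainComplex.of (fun n => (Pn S hS n).X₂) (fun n => (dP S hS n).τ₂)
    (fun n => by rw [← ShortComplex.comp_τ₂, dP_comp_dP]; rfl)

/-- The third complex. -/
noncomputable def L₃ : ChainComplex C ℕ :=
  ChainComplex.of (fun n => (Pn S hS n).X₃) (fun n => (dP S hS n).τ₃)
    (fun n => by rw [← ShortComplex.comp_τ₃, dP_comp_dP]; rfl)

@[simp] lemma L₁_d (n : ℕ) : (L₁ S hS).d (n + 1) n = (dP S hS n).τ₁ := by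
  exact ChainComplex.of_d (V := C) (fun n => (Pn S hS n).X₁) (fun n => (dP S hS n).τ₁) n
@[simp] lemma L₂_d (n : ℕ) : (L₂ S hS).d (n + 1) n = (dP S hS n).τ₂ := by
  exact ChainComplex.of_d (V := C) (fun n => (Pn S hS n).X₂) (fun n => (dP S hS n).τ₂) n
@[simp] lemma L₃_d (n : ℕ) : (L₃ S hS).d (n + 1) n = (dP S hS n).τ₃ := by
  exact ChainComplex.of_d (V := C) (fun n => (Pn S hS n).X₃) (fun n => (dP S hS n).τ₃) n

/-- The map `L₁ ⟶ L₂`. -/
noncomputable def fL : L₁ S hS ⟶ L₂ S hS :=
  ChainComplex.ofHom (fun n => (Pn S hS n).f) (fun n => by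
    rw [L₁_d, L₂_d]
    exact ((dP S hS n).comm₁₂).symm)

/-- The map `L₂ ⟶ L₃`. -/
noncomputable def gL : L₂ S hS ⟶ L₃ S hS :=
  ChainComplex.ofHom (fun n => (Pn S hS n).g) (fun n => by
    rw [L₂_d, L₃_d]
    exact ((dP S hS n).comm₂₃).symm)

@[simp] lemma fL_f (n : ℕ) : (fL S hS).f n = (Pn S hS n).f := rfl
@[simp] lemma gL_f (n : ℕ) : (gL S hS).f n = (Pn S hS n).g := rfl

lemma fL_gL : fL S hS ≫ gL S hS = 0 := by
  ext n
  exact (Pn S hS n).zero

lemma ιπP₁ (n : ℕ) : (ιPn S hS n).τ₁ ≫ (πPn S hS n).τ₁ = 0 := by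
  rw [← ShortComplex.comp_τ₁, ιPn_πPn]; rfl

lemma ιπP₂ (n : ℕ) : (ιPn S hS n).τ₂ ≫ (πPn S hS n).τ₂ = 0 := by
  rw [← ShortComplex.comp_τ₂, ιPn_πPn]; rfl

lemma ιπP₃ (n : ℕ) : (ιPn S hS n).τ₃ ≫ (πPn S hS n).τ₃ = 0 := by
  rw [← ShortComplex.comp_τ₃, ιPn_πPn]; rfl

/-- Splicing data for `L₁`. -/
noncomputable def spliceP₁ : SpliceP (L₁ S hS) where
  Z n := (SnP S hS n).X₁
  p n := (πPn S hS n).τ₁
  i n := (ιPn S hS n).τ₁
  w n := ιπP₁ S hS n
  se n := ιπ_kshortExact₁ (hSnP S hS n)
  hd n := L₁_d S hS n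

/-- Splicing data for `L₂`. -/
noncomputable def spliceP₂ : SpliceP (L₂ S hS) where
  Z n := (SnP S hS n).X₂
  p n := (πPn S hS n).τ₂
  i n := (ιPn S hS n).τ₂
  w n := ιπP₂ S hS n
  se n := ιπ_kshortExact₂ (hSnP S hS n)
  hd n := L₂_d S hS n

/-- Splicing data for `L₃`. -/
noncomputable def spliceP₃ : SpliceP (L₃ S hS) where
  Z n := (SnP S hS n).X₃
  p n := (πPn S hS n).τ₃
  i n := (ιPn S hS n).τ₃
  w n := ιπP₃ S hS n
  se n := ιπ_kshortExact₃ (hSnP S hS n)
  hd n := L₃_d S hS n

/-- The horseshoe resolution (projective version). -/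
noncomputable def psesRes : PSESRes S where
  P₁ := (spliceP₁ S hS).resolution (fun n => inferInstanceAs (Projective (Pn S hS n).X₁))
  P₂ := (spliceP₂ S hS).resolution (fun n => inferInstanceAs (Projective (Pn S hS n).X₂))
  P₃ := (spliceP₃ S hS).resolution (fun n => inferInstanceAs (Projective (Pn S hS n).X₃))
  f := fL S hS
  g := gL S hS
  zero := fL_gL S hS
  f_π := by
    apply HomologicalComplex.to_single_hom_ext
    change (fL S hS).f 0 ≫ (spliceP₂ S hS).π.f 0 =
      (spliceP₁ S hS).π.f 0 ≫ ((ChainComplex.single₀ C).map S.f).f 0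
    rw [SpliceP.π_f_zero, SpliceP.π_f_zero, ChainComplex.single₀_map_f_zero]
    exact (πPn S hS 0).comm₁₂.symm
  g_π := by
    apply HomologicalComplex.to_single_hom_ext
    change (gL S hS).f 0 ≫ (spliceP₃ S hS).π.f 0 =
      (spliceP₂ S hS).π.f 0 ≫ ((ChainComplex.single₀ C).map S.g).f 0
    rw [SpliceP.π_f_zero, SpliceP.π_f_zero, ChainComplex.single₀_map_f_zero]
    exact (πPn S hS 0).comm₂₃.symm
  shortExact := by
    apply HomologicalComplex.shortExact_of_degreewise_shortExact
    intro n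
    exact PS_shortExact (SnP S hS n)

end

end Groth.Agent.Lib.Helper22.Horseshoe
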