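import Groth.Agent.Lib.Helper22.Horseshoe.ExistsP
import Groth.Agent.Lib.Helper22.Horseshoe.DerivedLES

/-!
# The long exact sequence of left derived functors

For an additive functor `F : C ⥤ D` on an abelian category with enough projectives and a short
exact sequence `S` of `C`: connecting morphisms
`leftDelta F S hS n : (F.leftDerived (n + 1)).obj S.X₃ ⟶ (F.leftDerived n).obj S.X₁`
and exactness of the long sequence (`left_exact₁`, `left_exact₂`, `left_exact₃`), and
`epi_leftDerived_zero_map` (right exactness of `L₀F`).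
-/

set_option autoImplicit false
set_option linter.style.haveILetI false

universe v u v' u'

open CategoryTheory CategoryTheory.Limits

namespace Groth.Agent.Lib.Helper22.Horseshoe

variable {C : Type u} [Category.{v} C] [Abelian C] {D : Type u'} [Category.{v'} D] [Abelian D]

lemma iso_aux {E : Type*} [Category E] {A P Q B : E} (a : A ⟶ P) (b : P ⟶ Q) (i : B ≅ Q) :
    (a ≫ b ≫ i.inv) ≫ i.hom = a ≫ b := by
  rw [Category.assoc, Category.assoc, Iso.inv_hom_id, Category.comp_id]

/-- The left derived functors of an additive functor are additive. -/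
instance leftDerived_additive [HasProjectiveResolutions C] (F : C ⥤ D) [F.Additive] (n : ℕ) :
    (F.leftDerived n).Additive where
  map_add {X Y f g} := by
    have w : ∀ (k : X ⟶ Y), ProjectiveResolution.lift k _ _ ≫ (projectiveResolution Y).π =
        (projectiveResolution X).π ≫ (ChainComplex.single₀ C).map k :=
      fun k => ProjectiveResolution.lift_commutes k _ _
    rw [F.leftDerived_map_eq n f _ (w f), F.leftDerived_map_eq n g _ (w g),
      F.leftDerived_map_eq n (f + g)
        (ProjectiveResolution.lift f _ _ + ProjectiveResolution.lift g _ _)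
        (by rw [Preadditive.add_comp, Functor.map_add, Preadditive.comp_add, w f, w g])]
    simp only [Functor.map_add, Preadditive.add_comp, Preadditive.comp_add]

namespace PSESRes

variable [HasProjectiveResolutions C] (F : C ⥤ D) [F.Additive]
  {S : ShortComplex C} (T : PSESRes S)

/-- The connecting morphism computed from a projective resolution of the sequence. -/
noncomputable def delta (n₀ n₁ : ℕ) (h : n₀ + 1 = n₁) :
    (F.leftDerived n₁).obj S.X₃ ⟶ (F.leftDerived n₀).obj S.X₁ :=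
  (T.P₃.isoLeftDerivedObj F n₁).hom ≫ (T.map_shortExact F).δ n₁ n₀ h ≫
    (T.P₁.isoLeftDerivedObj F n₀).inv

lemma f_π_zero : T.f.f 0 ≫ T.P₂.π.f 0 = T.P₁.π.f 0 ≫ S.f := by
  have := congrArg (fun k => k.f 0) T.f_π
  simpa using this

lemma g_π_zero : T.g.f 0 ≫ T.P₃.π.f 0 = T.P₂.π.f 0 ≫ S.g := by
  have := congrArg (fun k => k.f 0) T.g_π
  simpa using this

lemma sq_f (n : ℕ) :
    (F.leftDerived n).map S.f ≫ (T.P₂.isoLeftDerivedObj F n).hom =
      (T.P₁.isoLeftDerivedObj F n).hom ≫
        HomologicalComplex.homologyMap ((F.mapHomologicalComplex _).map T.f) n :=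
  ProjectiveResolution.isoLeftDerivedObj_hom_naturality S.f T.P₁ T.P₂ T.f T.f_π_zero F n

lemma sq_g (n : ℕ) :
    (F.leftDerived n).map S.g ≫ (T.P₃.isoLeftDerivedObj F n).hom =
      (T.P₂.isoLeftDerivedObj F n).hom ≫
        HomologicalComplex.homologyMap ((F.mapHomologicalComplex _).map T.g) n :=
  ProjectiveResolution.isoLeftDerivedObj_hom_naturality S.g T.P₂ T.P₃ T.g T.g_π_zero F n

lemma sq_f_inv (n : ℕ) :
    (T.P₁.isoLeftDerivedObj F n).inv ≫ (F.leftDerived n).map S.f =
      HomologicalComplex.homologyMap ((F.mapHomologicalComplex _).map T.f) n ≫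
        (T.P₂.isoLeftDerivedObj F n).inv :=
  ProjectiveResolution.isoLeftDerivedObj_inv_naturality S.f T.P₁ T.P₂ T.f T.f_π_zero F n

omit T in
lemma map_f_map_g (n : ℕ) : (F.leftDerived n).map S.f ≫ (F.leftDerived n).map S.g = 0 := by
  rw [← Functor.map_comp, S.zero, Functor.map_zero]

include T in
/-- Exactness at `LₙF(X₂)`. -/
theorem exact₂ (n : ℕ) :
    (ShortComplex.mk ((F.leftDerived n).map S.f) ((F.leftDerived n).map S.g)
      (map_f_map_g F n)).Exact := by
  refine ShortComplex.exact_of_iso (ShortComplex.isoMk (T.P₁.isoLeftDerivedObj F n)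
    (T.P₂.isoLeftDerivedObj F n) (T.P₃.isoLeftDerivedObj F n) ?_ ?_).symm
    ((T.map_shortExact F).homology_exact₂ n)
  · exact (sq_f F T n).symm
  · exact (sq_g F T n).symm

@[reassoc]
lemma delta_comp_iso (n₀ n₁ : ℕ) (h : n₀ + 1 = n₁) :
    T.delta F n₀ n₁ h ≫ (T.P₁.isoLeftDerivedObj F n₀).hom =
      (T.P₃.isoLeftDerivedObj F n₁).hom ≫ (T.map_shortExact F).δ n₁ n₀ h := by
  exact iso_aux _ _ _

theorem comp_delta (n₀ n₁ : ℕ) (h : n₀ + 1 = n₁) :
    (F.leftDerived n₁).map S.g ≫ T.delta F n₀ n₁ h = 0 :=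
  zero_aux₁ (sq_g F T n₁) ((T.map_shortExact F).comp_δ n₁ n₀ h)

theorem delta_comp (n₀ n₁ : ℕ) (h : n₀ + 1 = n₁) :
    T.delta F n₀ n₁ h ≫ (F.leftDerived n₀).map S.f = 0 :=
  zero_aux₂ (sq_f_inv F T n₀) ((T.map_shortExact F).δ_comp n₁ n₀ h)

/-- Exactness at `Lₙ₁F(X₃)`. -/
theorem exact₃ (n₀ n₁ : ℕ) (h : n₀ + 1 = n₁) :
    (ShortComplex.mk ((F.leftDerived n₁).map S.g) (T.delta F n₀ n₁ h)
      (comp_delta F T n₀ n₁ h)).Exact := by
  refine ShortComplex.exact_of_iso (ShortComplex.isoMk (T.P₂.isoLeftDerivedObj F n₁)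
    (T.P₃.isoLeftDerivedObj F n₁) (T.P₁.isoLeftDerivedObj F n₀) ?_ ?_).symm
    ((T.map_shortExact F).homology_exact₃ n₁ n₀ h)
  · exact (sq_g F T n₁).symm
  · exact (delta_comp_iso F T n₀ n₁ h).symm

/-- Exactness at `Lₙ₀F(X₁)`. -/
theorem exact₁ (n₀ n₁ : ℕ) (h : n₀ + 1 = n₁) :
    (ShortComplex.mk (T.delta F n₀ n₁ h) ((F.leftDerived n₀).map S.f)
      (delta_comp F T n₀ n₁ h)).Exact := by
  refine ShortComplex.exact_of_iso (ShortComplex.isoMk (T.P₃.isoLeftDerivedObj F n₁)
    (T.P₁.isoLeftDerivedObj F n₀) (T.P₂.isoLeftDerivedObj F n₀) ?_ ?_).symm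
    ((T.map_shortExact F).homology_exact₁ n₁ n₀ h)
  · exact (delta_comp_iso F T n₀ n₁ h).symm
  · exact (sq_f F T n₀).symm

include T in
/-- `L₀F` sends the second map of a short exact sequence to an epimorphism. -/
theorem epi_leftDerived_zero_map : Epi ((F.leftDerived 0).map S.g) := by
  have hm : Epi (((F.mapHomologicalComplex (ComplexShape.down ℕ)).map T.g).f 0) := by
    have hsg : (T.splitting 0).s ≫ T.g.f 0 = 𝟙 _ := (T.splitting 0).s_g
    have : IsSplitEpi (F.map (T.g.f 0)) :=
      IsSplitEpi.mk' ⟨F.map (T.splitting 0).s,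
        (F.map_comp _ _).symm.trans ((congrArg F.map hsg).trans (F.map_id _))⟩
    exact inferInstanceAs (Epi (F.map (T.g.f 0)))
  have h2 : Epi (HomologicalComplex.homologyMap
      ((F.mapHomologicalComplex (ComplexShape.down ℕ)).map T.g) 0) :=
    HomologicalComplex.epi_homologyMap_of_epi_of_not_rel _ 0 (by simp)
  have h3 : Epi ((T.P₂.isoLeftDerivedObj F 0).inv ≫ (F.leftDerived 0).map S.g) := by
    rw [ProjectiveResolution.isoLeftDerivedObj_inv_naturality S.g T.P₂ T.P₃ T.g T.g_π_zero F 0]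
    exact epi_comp' h2 inferInstance
  exact epi_of_epi (T.P₂.isoLeftDerivedObj F 0).inv _

end PSESRes

section Main

variable [EnoughProjectives C] (F : C ⥤ D) [F.Additive] (S : ShortComplex C) (hS : S.ShortExact)

/-- The connecting morphism `Lₙ₊₁F(X₃) ⟶ LₙF(X₁)` of a short exact sequence. -/
noncomputable def leftDelta (n : ℕ) :
    (F.leftDerived (n + 1)).obj S.X₃ ⟶ (F.leftDerived n).obj S.X₁ :=
  (psesRes S hS).delta F n (n + 1) rfl

include hS in
theorem left_exact₂ (n : ℕ) :
    (ShortComplex.mk ((F.leftDerived n).map S.f) ((F.leftDerived n).map S.g)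
      (PSESRes.map_f_map_g F n)).Exact :=
  (psesRes S hS).exact₂ F n

theorem left_comp_delta (n : ℕ) : (F.leftDerived (n + 1)).map S.g ≫ leftDelta F S hS n = 0 :=
  (psesRes S hS).comp_delta F n (n + 1) rfl

theorem left_delta_comp (n : ℕ) : leftDelta F S hS n ≫ (F.leftDerived n).map S.f = 0 :=
  (psesRes S hS).delta_comp F n (n + 1) rfl

theorem left_exact₃ (n : ℕ) :
    (ShortComplex.mk ((F.leftDerived (n + 1)).map S.g) (leftDelta F S hS n)
      (left_comp_delta F S hS n)).Exact :=
  (psesRes S hS).exact₃ F n (n + 1) rfl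

theorem left_exact₁ (n : ℕ) :
    (ShortComplex.mk (leftDelta F S hS n) ((F.leftDerived n).map S.f)
      (left_delta_comp F S hS n)).Exact :=
  (psesRes S hS).exact₁ F n (n + 1) rfl

include hS in
theorem epi_leftDerived_zero_map : Epi ((F.leftDerived 0).map S.g) :=
  (psesRes S hS).epi_leftDerived_zero_map F

end Main

end Groth.Agent.Lib.Helper22.Horseshoe
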