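import Groth.Agent.Lib.Helper22.Horseshoe.LeftLES
import Mathlib.CategoryTheory.Abelian.Projective.Dimension

/-!
# Left derived functors vanish above the projective dimension
-/

set_option autoImplicit false

universe v u v' u'

open CategoryTheory CategoryTheory.Limits

namespace Groth.Agent.Lib.Helper22.Horseshoe

variable {C : Type u} [Category.{v} C] [Abelian C] {D : Type u'} [Category.{v'} D] [Abelian D]
  [EnoughProjectives C] (F : C ⥤ D) [F.Additive]

theorem isZero_leftDerived_of_hasProjectiveDimensionLT (q : ℕ) :
    ∀ (N : C) [HasProjectiveDimensionLT N (q + 1)] (i : ℕ), q < i →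
      IsZero ((F.leftDerived i).obj N) := by
  induction q with
  | zero =>
    intro N hN i hi
    have : Projective N := projective_iff_hasProjectiveDimensionLT_one.2 hN
    obtain ⟨j, rfl⟩ : ∃ j, i = j + 1 := ⟨i - 1, by omega⟩
    exact Functor.isZero_leftDerived_obj_projective_succ F j N
  | succ q ih =>
    intro N hN i hi
    obtain ⟨j, rfl⟩ : ∃ j, i = j + 1 := ⟨i - 1, by omega⟩
    have hj : q < j := by omega
    let S : ShortComplex C := ShortComplex.mk (kernel.ι (Projective.π N)) (Projective.π N)
      (kernel.condition _)
    have hS : S.ShortExact :=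
      { exact := ShortComplex.exact_kernel _
        mono_f := inferInstanceAs (Mono (kernel.ι (Projective.π N)))
        epi_g := inferInstanceAs (Epi (Projective.π N)) }
    have hP : HasProjectiveDimensionLT S.X₂ (q + 1) := by
      have : HasProjectiveDimensionLT S.X₂ 1 :=
        projective_iff_hasProjectiveDimensionLT_one.1
          (inferInstanceAs (Projective (Projective.over N)))
      exact hasProjectiveDimensionLT_of_ge S.X₂ 1 (q + 1) (by omega)
    have hK : HasProjectiveDimensionLT S.X₁ (q + 1) :=
      hS.hasProjectiveDimensionLT_X₁ (q + 1) hP hN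
    have h1 : IsZero ((F.leftDerived (j + 1)).obj S.X₂) :=
      Functor.isZero_leftDerived_obj_projective_succ F j (Projective.over N)
    have h3 : IsZero ((F.leftDerived j).obj S.X₁) := ih S.X₁ j hj
    exact (left_exact₃ F S hS j).isZero_X₂ (h1.eq_of_src _ _) (h3.eq_of_tgt _ _)

end Groth.Agent.Lib.Helper22.Horseshoe
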