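import Mathlib.CategoryTheory.Abelian.Injective.Resolution
import Mathlib.Algebra.Homology.ShortComplex.ShortExact

/-!
# Splicing short exact sequences into a resolution

Given a cochain complex `K` (indexed by `ℕ`) whose differentials factor as
`K.X n ⟶ Z (n+1) ⟶ K.X (n+1)` through short exact sequences `Z n ⟶ K.X n ⟶ Z (n+1)`,
the complex `K` is a resolution of `Z 0`.
-/

set_option autoImplicit false

universe v u

open CategoryTheory CategoryTheory.Limits

namespace Groth.Agent.Lib.Helper22.Horseshoe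

variable {C : Type u} [Category.{v} C] [Abelian C]

/-- Splicing data on a cochain complex `K`. -/
structure Splice (K : CochainComplex C ℕ) where
  Z : ℕ → C
  i : ∀ n, Z n ⟶ K.X n
  p : ∀ n, K.X n ⟶ Z (n + 1)
  w : ∀ n, i n ≫ p n = 0
  se : ∀ n, (ShortComplex.mk (i n) (p n) (w n)).ShortExact
  hd : ∀ n, K.d n (n + 1) = p n ≫ i (n + 1)

namespace Splice

variable {K : CochainComplex C ℕ} (D : Splice K)

instance (n : ℕ) : Mono (D.i n) := (D.se n).mono_f
instance (n : ℕ) : Epi (D.p n) := (D.se n).epi_g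

include D in
lemma exactAt_succ (n : ℕ) : K.ExactAt (n + 1) := by
  rw [HomologicalComplex.exactAt_iff' _ n (n + 1) (n + 1 + 1) (by simp) (by simp)]
  let Sa : ShortComplex C := ShortComplex.mk (D.p n ≫ D.i (n + 1)) (D.p (n + 1))
    (by rw [Category.assoc, D.w, comp_zero])
  have hSa : Sa.Exact := by
    let β : Sa ⟶ ShortComplex.mk (D.i (n + 1)) (D.p (n + 1)) (D.w (n + 1)) :=
      { τ₁ := D.p n
        τ₂ := 𝟙 _
        τ₃ := 𝟙 _
        comm₁₂ := by simp [Sa]
        comm₂₃ := by simp [Sa] }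
    have : Epi β.τ₁ := inferInstanceAs (Epi (D.p n))
    have : IsIso β.τ₂ := inferInstanceAs (IsIso (𝟙 _))
    have : Mono β.τ₃ := inferInstanceAs (Mono (𝟙 _))
    exact (ShortComplex.exact_iff_of_epi_of_isIso_of_mono β).2 (D.se (n + 1)).exact
  let γ : Sa ⟶ K.sc' n (n + 1) (n + 1 + 1) :=
    { τ₁ := 𝟙 _
      τ₂ := 𝟙 _
      τ₃ := D.i (n + 1 + 1)
      comm₁₂ := by
        change 𝟙 _ ≫ K.d n (n + 1) = (D.p n ≫ D.i (n + 1)) ≫ 𝟙 _
        rw [D.hd n, Category.comp_id, Category.id_comp]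
      comm₂₃ := by
        change 𝟙 _ ≫ K.d (n + 1) (n + 1 + 1) = D.p (n + 1) ≫ D.i (n + 1 + 1)
        rw [D.hd (n + 1), Category.id_comp] }
  have : Epi γ.τ₁ := inferInstanceAs (Epi (𝟙 _))
  have : IsIso γ.τ₂ := inferInstanceAs (IsIso (𝟙 _))
  have : Mono γ.τ₃ := inferInstanceAs (Mono (D.i (n + 1 + 1)))
  exact (ShortComplex.exact_iff_of_epi_of_isIso_of_mono γ).1 hSa

lemma i_zero_comp_d : D.i 0 ≫ K.d 0 1 = 0 := by
  rw [D.hd 0, ← Category.assoc, D.w, zero_comp]

/-- The augmentation. -/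
noncomputable def ι : (CochainComplex.single₀ C).obj (D.Z 0) ⟶ K :=
  (CochainComplex.fromSingle₀Equiv _ _).symm ⟨D.i 0, D.i_zero_comp_d⟩

@[simp]
lemma ι_f_zero : D.ι.f 0 = D.i 0 :=
  CochainComplex.fromSingle₀Equiv_symm_apply_f_zero _ _

lemma exact_zero : (ShortComplex.mk (D.i 0) (K.d 0 1) D.i_zero_comp_d).Exact := by
  let γ : ShortComplex.mk (D.i 0) (D.p 0) (D.w 0) ⟶ ShortComplex.mk (D.i 0) (K.d 0 1) D.i_zero_comp_d :=
    { τ₁ := 𝟙 _
      τ₂ := 𝟙 _
      τ₃ := D.i 1
      comm₁₂ := by simp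
      comm₂₃ := by
        change 𝟙 _ ≫ K.d 0 1 = D.p 0 ≫ D.i 1
        rw [D.hd 0, Category.id_comp] }
  have : Epi γ.τ₁ := inferInstanceAs (Epi (𝟙 _))
  have : IsIso γ.τ₂ := inferInstanceAs (IsIso (𝟙 _))
  have : Mono γ.τ₃ := inferInstanceAs (Mono (D.i 1))
  exact (ShortComplex.exact_iff_of_epi_of_isIso_of_mono γ).1 (D.se 0).exact

instance quasiIso_ι : QuasiIso D.ι := ⟨fun n => by
  cases n with
  | zero =>
    rw [CochainComplex.quasiIsoAt₀_iff, ShortComplex.quasiIso_iff_of_zeros]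
    · refine (ShortComplex.exact_and_mono_f_iff_of_iso ?_).2
        ⟨D.exact_zero, inferInstanceAs (Mono (D.i 0))⟩
      exact ShortComplex.isoMk (Iso.refl _) (Iso.refl _) (Iso.refl _)
        ((Category.id_comp _).trans (D.ι_f_zero.symm.trans (Category.comp_id _).symm))
        ((Category.id_comp _).trans (Category.comp_id _).symm)
    · rfl
    · rfl
    · exact K.shape _ _ (by simp)
  | succ n =>
    rw [quasiIsoAt_iff_exactAt]
    · exact D.exactAt_succ n
    · apply CochainComplex.exactAt_succ_single_obj⟩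

/-- The injective resolution attached to splicing data with injective terms. -/
noncomputable def resolution (hK : ∀ n, Injective (K.X n)) : InjectiveResolution (D.Z 0) where
  cocomplex := K
  injective := hK
  ι := D.ι
  quasiIso := D.quasiIso_ι

end Splice

end Groth.Agent.Lib.Helper22.Horseshoe
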