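import Mathlib.CategoryTheory.Abelian.Projective.Resolution
import Mathlib.Algebra.Homology.ShortComplex.ShortExact

/-!
# Splicing short exact sequences into a (left) resolution

Dual of `Splice`: a chain complex `K` whose differentials factor as
`K.X (n+1) ⟶ Z (n+1) ⟶ K.X n` through short exact sequences `Z (n+1) ⟶ K.X n ⟶ Z n`
is a resolution of `Z 0`.
-/

set_option autoImplicit false

universe v u

open CategoryTheory CategoryTheory.Limits

namespace Groth.Agent.Lib.Helper22.Horseshoe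

variable {C : Type u} [Category.{v} C] [Abelian C]

/-- Splicing data on a chain complex `K`. -/
structure SpliceP (K : ChainComplex C ℕ) where
  Z : ℕ → C
  p : ∀ n, K.X n ⟶ Z n
  i : ∀ n, Z (n + 1) ⟶ K.X n
  w : ∀ n, i n ≫ p n = 0
  se : ∀ n, (ShortComplex.mk (i n) (p n) (w n)).ShortExact
  hd : ∀ n, K.d (n + 1) n = p (n + 1) ≫ i n

namespace SpliceP

variable {K : ChainComplex C ℕ} (D : SpliceP K)

instance (n : ℕ) : Mono (D.i n) := (D.se n).mono_f
instance (n : ℕ) : Epi (D.p n) := (D.se n).epi_g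

include D in
lemma exactAt_succ (n : ℕ) : K.ExactAt (n + 1) := by
  rw [HomologicalComplex.exactAt_iff' _ (n + 1 + 1) (n + 1) n (by simp) (by simp)]
  let Sa : ShortComplex C := ShortComplex.mk (D.p (n + 1 + 1) ≫ D.i (n + 1)) (D.p (n + 1))
    (by rw [Category.assoc, D.w, comp_zero])
  have hSa : Sa.Exact := by
    let β : Sa ⟶ ShortComplex.mk (D.i (n + 1)) (D.p (n + 1)) (D.w (n + 1)) :=
      { τ₁ := D.p (n + 1 + 1)
        τ₂ := 𝟙 _
        τ₃ := 𝟙 _
        comm₁₂ := by simp [Sa]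
        comm₂₃ := by simp [Sa] }
    have : Epi β.τ₁ := inferInstanceAs (Epi (D.p (n + 1 + 1)))
    have : IsIso β.τ₂ := inferInstanceAs (IsIso (𝟙 _))
    have : Mono β.τ₃ := inferInstanceAs (Mono (𝟙 _))
    exact (ShortComplex.exact_iff_of_epi_of_isIso_of_mono β).2 (D.se (n + 1)).exact
  let γ : Sa ⟶ K.sc' (n + 1 + 1) (n + 1) n :=
    { τ₁ := 𝟙 _
      τ₂ := 𝟙 _
      τ₃ := D.i n
      comm₁₂ := by
        change 𝟙 _ ≫ K.d (n + 1 + 1) (n + 1) = (D.p (n + 1 + 1) ≫ D.i (n + 1)) ≫ 𝟙 _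
        rw [D.hd (n + 1), Category.comp_id, Category.id_comp]
      comm₂₃ := by
        change 𝟙 _ ≫ K.d (n + 1) n = D.p (n + 1) ≫ D.i n
        rw [D.hd n, Category.id_comp] }
  have : Epi γ.τ₁ := inferInstanceAs (Epi (𝟙 _))
  have : IsIso γ.τ₂ := inferInstanceAs (IsIso (𝟙 _))
  have : Mono γ.τ₃ := inferInstanceAs (Mono (D.i n))
  exact (ShortComplex.exact_iff_of_epi_of_isIso_of_mono γ).1 hSa

lemma d_comp_p_zero : K.d 1 0 ≫ D.p 0 = 0 := by
  rw [D.hd 0, Category.assoc, D.w, comp_zero]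

/-- The augmentation. -/
noncomputable def π : K ⟶ (ChainComplex.single₀ C).obj (D.Z 0) :=
  (ChainComplex.toSingle₀Equiv _ _).symm ⟨D.p 0, D.d_comp_p_zero⟩

@[simp]
lemma π_f_zero : D.π.f 0 = D.p 0 :=
  ChainComplex.toSingle₀Equiv_symm_apply_f_zero _ _

lemma exact_zero : (ShortComplex.mk (K.d 1 0) (D.p 0) D.d_comp_p_zero).Exact := by
  let γ : ShortComplex.mk (K.d 1 0) (D.p 0) D.d_comp_p_zero ⟶
      ShortComplex.mk (D.i 0) (D.p 0) (D.w 0) :=
    { τ₁ := D.p 1
      τ₂ := 𝟙 _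
      τ₃ := 𝟙 _
      comm₁₂ := by
        change D.p 1 ≫ D.i 0 = K.d 1 0 ≫ 𝟙 _
        rw [D.hd 0, Category.comp_id]
      comm₂₃ := by simp }
  have : Epi γ.τ₁ := inferInstanceAs (Epi (D.p 1))
  have : IsIso γ.τ₂ := inferInstanceAs (IsIso (𝟙 _))
  have : Mono γ.τ₃ := inferInstanceAs (Mono (𝟙 _))
  exact (ShortComplex.exact_iff_of_epi_of_isIso_of_mono γ).2 (D.se 0).exact

instance quasiIso_π : QuasiIso D.π := ⟨fun n => by
  cases n with
  | zero =>
    rw [ChainComplex.quasiIsoAt₀_iff, ShortComplex.quasiIso_iff_of_zeros']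
    · refine (ShortComplex.exact_and_epi_g_iff_of_iso ?_).2
        ⟨D.exact_zero, inferInstanceAs (Epi (D.p 0))⟩
      exact ShortComplex.isoMk (Iso.refl _) (Iso.refl _) (Iso.refl _)
        ((Category.id_comp _).trans (Category.comp_id _).symm)
        ((Category.id_comp _).trans (D.π_f_zero.symm.trans (Category.comp_id _).symm))
    · exact K.shape _ _ (by simp)
    · rfl
    · rfl
  | succ n =>
    rw [quasiIsoAt_iff_exactAt']
    · exact D.exactAt_succ n
    · apply ChainComplex.exactAt_succ_single_obj⟩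

/-- The projective resolution attached to splicing data with projective terms. -/
noncomputable def resolution (hK : ∀ n, Projective (K.X n)) : ProjectiveResolution (D.Z 0) where
  complex := K
  projective := hK
  π := D.π
  quasiIso := D.quasiIso_π

end SpliceP

end Groth.Agent.Lib.Helper22.Horseshoe
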